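import Groth.Prelude.Def_LiftSq
import Groth.Prelude.Def_FibCat2

/-!
# Unique lifting of 2-commutative squares: composition and base change
-/

set_option autoImplicit false

universe v u v₂ u₂ v₃ u₃ v₄ u₄ v₅ u₅ v₆ u₆

open CategoryTheory CategoryTheory.Limits

namespace LiftStabLib

variable {C : Type u} [Category.{v} C]
  {𝒜 : BasedCategory.{v₂, u₂} C} {ℬ : BasedCategory.{v₃, u₃} C}
  {𝒳 : BasedCategory.{v₄, u₄} C} {𝒴 : BasedCategory.{v₅, u₅} C} {𝒵 : BasedCategory.{v₆, u₆} C}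

theorem ext' {F G : 𝒜 ⥤ᵇ ℬ} {α β : F ⟶ G} (h : ∀ a, α.toNatTrans.app a = β.toNatTrans.app a) : α = β :=
  BasedNatTrans.homCategory.ext α β (NatTrans.ext (funext h))

theorem app_eq {F G : 𝒜 ⥤ᵇ ℬ} {α β : F ⟶ G} (h : α = β) (a : 𝒜.obj) :
    α.toNatTrans.app a = β.toNatTrans.app a := by rw [h]

/-- Whiskering an isomorphism on the right. -/
def wR {F G : 𝒜 ⥤ᵇ ℬ} (e : F ≅ G) (H : ℬ ⥤ᵇ 𝒳) : BasedFunctor.comp F H ≅ BasedFunctor.comp G H where
  hom := BasedCategory.whiskerRight e.hom H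
  inv := BasedCategory.whiskerRight e.inv H
  hom_inv_id := by rw [← LiftSq.whiskerRight_comp', e.hom_inv_id, LiftSq.whiskerRight_id']
  inv_hom_id := by rw [← LiftSq.whiskerRight_comp', e.inv_hom_id, LiftSq.whiskerRight_id']

/-- Whiskering an isomorphism on the left. -/
def wL (F : 𝒜 ⥤ᵇ ℬ) {G H : ℬ ⥤ᵇ 𝒳} (e : G ≅ H) : BasedFunctor.comp F G ≅ BasedFunctor.comp F H where
  hom := BasedCategory.whiskerLeft F e.hom
  inv := BasedCategory.whiskerLeft F e.inv
  hom_inv_id := by rw [← LiftSq.whiskerLeft_comp', e.hom_inv_id, LiftSq.whiskerLeft_id']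
  inv_hom_id := by rw [← LiftSq.whiskerLeft_comp', e.inv_hom_id, LiftSq.whiskerLeft_id']

theorem liftsUniquely_comp {j : 𝒜 ⥤ᵇ ℬ} {f : 𝒳 ⥤ᵇ 𝒴} {g : 𝒴 ⥤ᵇ 𝒵}
    (hf : LiftSq.LiftsUniquely j f) (hg : LiftSq.LiftsUniquely j g) :
    LiftSq.LiftsUniquely j (BasedFunctor.comp f g) := by
  intro sq
  let sq₂ : LiftSq.Sq j g := ⟨BasedFunctor.comp sq.top f, sq.bot, sq.iso⟩
  refine ⟨?_, fun d d' => ?_⟩
  · obtain ⟨d₂⟩ := (hg sq₂).1
    obtain ⟨d₁⟩ := (hf ⟨sq.top, d₂.fn, d₂.isoTop⟩).1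
    refine ⟨⟨d₁.fn, d₁.isoTop, d₂.isoBot ≪≫ wR d₁.isoBot g, ext' fun x => ?_⟩⟩
    have h1 := app_eq d₁.w x
    have h2 := app_eq d₂.w x
    show (d₂.isoBot.hom.toNatTrans.app (j.obj x) ≫ g.map (d₁.isoBot.hom.toNatTrans.app (j.obj x))) ≫
      g.map (f.map (d₁.isoTop.hom.toNatTrans.app x)) = sq.iso.hom.toNatTrans.app x
    refine (Category.assoc _ _ _).trans ((congrArg (fun t => d₂.isoBot.hom.toNatTrans.app (j.obj x) ≫ t)
      (g.toFunctor.map_comp _ _).symm).trans ?_)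
    refine Eq.trans ?_ h2
    exact congrArg (fun t => d₂.isoBot.hom.toNatTrans.app (j.obj x) ≫ g.map t) h1
  · let down : sq.Lift → sq₂.Lift := fun d => ⟨BasedFunctor.comp d.fn f, wR d.isoTop f, d.isoBot,
      ext' fun x => app_eq d.w x⟩
    obtain ⟨U⟩ := (hg sq₂).2 (down d) (down d')
    obtain ⟨U'⟩ := (hg sq₂).2 (down d') (down d)
    obtain ⟨V⟩ := (hg sq₂).2 (down d) (down d)
    obtain ⟨V'⟩ := (hg sq₂).2 (down d') (down d')
    let θ₂ : down d ⟶ down d' := U.default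
    let θ₂' : down d' ⟶ down d := U'.default
    let E : BasedFunctor.comp d.fn f ≅ BasedFunctor.comp d'.fn f :=
      { hom := θ₂.hom
        inv := θ₂'.hom
        hom_inv_id := congrArg LiftSq.Sq.Lift.Hom.hom ((V.uniq (θ₂ ≫ θ₂')).trans (V.uniq (𝟙 _)).symm)
        inv_hom_id := congrArg LiftSq.Sq.Lift.Hom.hom ((V'.uniq (θ₂' ≫ θ₂)).trans (V'.uniq (𝟙 _)).symm) }
    let sq₁ : LiftSq.Sq j f := ⟨sq.top, BasedFunctor.comp d.fn f, wR d.isoTop f⟩
    let e : sq₁.Lift := ⟨d.fn, d.isoTop, Iso.refl _, ext' fun x => Category.id_comp _⟩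
    let e' : sq₁.Lift := ⟨d'.fn, d'.isoTop, E, ext' fun x => app_eq θ₂.w_top x⟩
    obtain ⟨W⟩ := (hf sq₁).2 e e'
    let θ : e ⟶ e' := W.default
    have hθ : ∀ x, f.map (θ.hom.toNatTrans.app x) = θ₂.hom.toNatTrans.app x := fun x =>
      (Category.id_comp _).symm.trans (app_eq θ.w_bot x)
    refine ⟨{ default := ⟨θ.hom, θ.w_top, ext' fun x => ?_⟩, uniq := fun φ => ?_ }⟩
    · show d.isoBot.hom.toNatTrans.app x ≫ g.map (f.map (θ.hom.toNatTrans.app x)) =
        d'.isoBot.hom.toNatTrans.app x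
      rw [hθ]
      exact app_eq θ₂.w_bot x
    · let φ₂ : down d ⟶ down d' := ⟨BasedCategory.whiskerRight φ.hom f, ext' fun x => by
        have h := app_eq φ.w_top x
        show f.map (φ.hom.toNatTrans.app (j.obj x)) ≫ f.map (d'.isoTop.hom.toNatTrans.app x) =
          f.map (d.isoTop.hom.toNatTrans.app x)
        rw [← f.toFunctor.map_comp]
        exact congrArg f.map h, ext' fun x => app_eq φ.w_bot x⟩
      have h₂ : φ₂.hom = θ₂.hom := congrArg LiftSq.Sq.Lift.Hom.hom (U.uniq φ₂)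
      let φ₁ : e ⟶ e' := ⟨φ.hom, φ.w_top, ext' fun x => (Category.id_comp _).trans (app_eq h₂ x)⟩
      exact LiftSq.Sq.Lift.hom_ext (congrArg LiftSq.Sq.Lift.Hom.hom (W.uniq φ₁) : φ.hom = θ.hom)

variable {𝒴' : BasedCategory.{v₆, u₆} C}

theorem isHomLift_fp {y : 𝒴' ⥤ᵇ 𝒴} {f : 𝒳 ⥤ᵇ 𝒴} {R : C} {a b : (FibCat.fp y f).obj} (φ : a ⟶ b)
    (h : 𝒴'.p.IsHomLift (𝟙 R) φ.hom.fst) : (FibCat.fp y f).p.IsHomLift (𝟙 R) φ :=
  IsHomLift.of_fac (FibCat.fp y f).p (𝟙 R) φ
    (@IsHomLift.domain_eq _ _ _ _ 𝒴'.p _ _ _ _ (𝟙 R) φ.hom.fst h)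
    (@IsHomLift.codomain_eq _ _ _ _ 𝒴'.p _ _ _ _ (𝟙 R) φ.hom.fst h)
    (@IsHomLift.fac _ _ _ _ 𝒴'.p _ _ _ _ (𝟙 R) φ.hom.fst h)

theorem liftsUniquely_fpFst {j : 𝒜 ⥤ᵇ ℬ} {f : 𝒳 ⥤ᵇ 𝒴} (y : 𝒴' ⥤ᵇ 𝒴) (hf : LiftSq.LiftsUniquely j f) :
    LiftSq.LiftsUniquely j (FibCat.fpFst y f) := by
  intro sq
  let sq' : LiftSq.Sq j f := ⟨BasedFunctor.comp sq.top (FibCat.fpSnd y f), BasedFunctor.comp sq.bot y,
    wR sq.iso y ≪≫ wL sq.top (FibCat.fpIso y f)⟩
  refine ⟨?_, fun d d' => ?_⟩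
  · obtain ⟨d₀⟩ := (hf sq').1
    let a := FibCat.fpLift sq.bot d₀.fn d₀.isoBot
    let isoTop : BasedFunctor.comp j a ≅ sq.top :=
      BasedNatIso.mkNatIso
        (NatIso.ofComponents (fun x => ObjectProperty.isoMk _
          (CategoricalPullback.mkIso (((BasedNatTrans.forgetful _ _).mapIso sq.iso).app x)
            (((BasedNatTrans.forgetful _ _).mapIso d₀.isoTop).app x) (app_eq d₀.w x).symm))
          (fun {x x'} g => ObjectProperty.hom_ext _ (CategoricalPullback.hom_ext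
            (sq.iso.hom.toNatTrans.naturality g) (d₀.isoTop.hom.toNatTrans.naturality g))))
        (fun x => isHomLift_fp _ (sq.iso.hom.isHomLift' x))
    exact ⟨⟨a, isoTop, Iso.refl _, ext' fun x => Category.id_comp _⟩⟩
  · let down : sq.Lift → sq'.Lift := fun d => ⟨BasedFunctor.comp d.fn (FibCat.fpSnd y f),
      wR d.isoTop (FibCat.fpSnd y f), wR d.isoBot y ≪≫ wL d.fn (FibCat.fpIso y f), ext' fun x => by
        have hw := app_eq d.w x
        have hm := (d.isoTop.hom.toNatTrans.app x).hom.w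
        show (y.map (d.isoBot.hom.toNatTrans.app (j.obj x)) ≫ (d.fn.obj (j.obj x)).obj.iso.hom) ≫
          f.map (d.isoTop.hom.toNatTrans.app x).hom.snd =
            y.map (sq.iso.hom.toNatTrans.app x) ≫ (sq.top.obj x).obj.iso.hom
        rw [Category.assoc]
        refine Eq.trans (congrArg (fun t => y.map (d.isoBot.hom.toNatTrans.app (j.obj x)) ≫ t) hm.symm) ?_
        refine (Category.assoc _ _ _).symm.trans ((congrArg (fun t => t ≫ (sq.top.obj x).obj.iso.hom)
          (y.toFunctor.map_comp _ _).symm).trans ?_)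
        exact congrArg (fun t => y.map t ≫ (sq.top.obj x).obj.iso.hom) hw⟩
    obtain ⟨U⟩ := (hf sq').2 (down d) (down d')
    let θ₂ : down d ⟶ down d' := U.default
    let δ := d.isoBot.inv ≫ d'.isoBot.hom
    let θ : d.fn ⟶ d'.fn :=
      { app := fun x => ObjectProperty.homMk
          { fst := δ.toNatTrans.app x
            snd := θ₂.hom.toNatTrans.app x
            w := by
              have h := app_eq θ₂.w_bot x
              show y.map (d.isoBot.inv.toNatTrans.app x ≫ d'.isoBot.hom.toNatTrans.app x) ≫ (d'.fn.obj x).obj.iso.hom =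
                (d.fn.obj x).obj.iso.hom ≫ f.map (θ₂.hom.toNatTrans.app x)
              rw [y.toFunctor.map_comp, Category.assoc]
              refine Eq.trans (congrArg (fun t => y.map (d.isoBot.inv.toNatTrans.app x) ≫ t) h.symm) ?_
              show y.map (d.isoBot.inv.toNatTrans.app x) ≫ (y.map (d.isoBot.hom.toNatTrans.app x) ≫
                (d.fn.obj x).obj.iso.hom) ≫ f.map (θ₂.hom.toNatTrans.app x) = _
              rw [← Category.assoc, ← Category.assoc, ← y.toFunctor.map_comp]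
              have hi : d.isoBot.inv.toNatTrans.app x ≫ d.isoBot.hom.toNatTrans.app x = 𝟙 _ :=
                app_eq d.isoBot.inv_hom_id x
              rw [hi, y.toFunctor.map_id, Category.id_comp]
              rfl }
        naturality := fun x x' g => ObjectProperty.hom_ext _ (CategoricalPullback.hom_ext
          (δ.toNatTrans.naturality g) (θ₂.hom.toNatTrans.naturality g))
        isHomLift' := fun x => isHomLift_fp _ (δ.isHomLift' x) }
    refine ⟨{ default := ⟨θ, ext' fun x => ObjectProperty.hom_ext _ (CategoricalPullback.hom_ext ?_ ?_),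
      ext' fun x => ?_⟩, uniq := fun φ => LiftSq.Sq.Lift.hom_ext (ext' fun x => ObjectProperty.hom_ext _
        (CategoricalPullback.hom_ext ?_ ?_)) }⟩
    · have h1 := app_eq d.w x
      have h2 := app_eq d'.w x
      show (d.isoBot.inv.toNatTrans.app (j.obj x) ≫ d'.isoBot.hom.toNatTrans.app (j.obj x)) ≫
        (d'.isoTop.hom.toNatTrans.app x).hom.fst = (d.isoTop.hom.toNatTrans.app x).hom.fst
      rw [Category.assoc]
      refine Eq.trans (congrArg (fun t => d.isoBot.inv.toNatTrans.app (j.obj x) ≫ t) (h2.trans h1.symm)) ?_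
      show d.isoBot.inv.toNatTrans.app (j.obj x) ≫ d.isoBot.hom.toNatTrans.app (j.obj x) ≫
        (d.isoTop.hom.toNatTrans.app x).hom.fst = _
      have hi : d.isoBot.inv.toNatTrans.app (j.obj x) ≫ d.isoBot.hom.toNatTrans.app (j.obj x) = 𝟙 _ :=
        app_eq d.isoBot.inv_hom_id (j.obj x)
      rw [← Category.assoc, hi]
      exact Category.id_comp _
    · exact app_eq θ₂.w_top x
    · exact app_eq (d.isoBot.hom_inv_id_assoc d'.isoBot.hom) x
    · have h := app_eq φ.w_bot x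
      show (φ.hom.toNatTrans.app x).hom.fst = d.isoBot.inv.toNatTrans.app x ≫ d'.isoBot.hom.toNatTrans.app x
      refine Eq.trans ?_ (congrArg (fun t => d.isoBot.inv.toNatTrans.app x ≫ t) h)
      show _ = d.isoBot.inv.toNatTrans.app x ≫ d.isoBot.hom.toNatTrans.app x ≫ (φ.hom.toNatTrans.app x).hom.fst
      have hi : d.isoBot.inv.toNatTrans.app x ≫ d.isoBot.hom.toNatTrans.app x = 𝟙 _ :=
        app_eq d.isoBot.inv_hom_id x
      rw [← Category.assoc, hi]
      exact (Category.id_comp _).symm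
    · let φ₂ : down d ⟶ down d' := ⟨BasedCategory.whiskerRight φ.hom (FibCat.fpSnd y f),
        ext' fun x => congrArg (fun t => t.hom.snd) (app_eq φ.w_top x), ext' fun x => by
          have h := app_eq φ.w_bot x
          have hm := (φ.hom.toNatTrans.app x).hom.w
          show (y.map (d.isoBot.hom.toNatTrans.app x) ≫ (d.fn.obj x).obj.iso.hom) ≫
            f.map (φ.hom.toNatTrans.app x).hom.snd = y.map (d'.isoBot.hom.toNatTrans.app x) ≫ (d'.fn.obj x).obj.iso.hom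
          rw [Category.assoc]
          refine Eq.trans (congrArg (fun t => y.map (d.isoBot.hom.toNatTrans.app x) ≫ t) hm.symm) ?_
          refine (Category.assoc _ _ _).symm.trans ((congrArg (fun t => t ≫ (d'.fn.obj x).obj.iso.hom)
            (y.toFunctor.map_comp _ _).symm).trans ?_)
          exact congrArg (fun t => y.map t ≫ (d'.fn.obj x).obj.iso.hom) h⟩
      exact app_eq (congrArg LiftSq.Sq.Lift.Hom.hom (U.uniq φ₂)) x

end LiftStabLib
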